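import Groth.Agent.Lib.Helper19.RefNN.Main

set_option autoImplicit false

/-!
# Refined Noether normalization: the final statement
-/

open MvPolynomial

namespace Groth.Agent.Helper19.RefNN

universe u

variable {k : Type u} [Field k] {n : ℕ}

section Compl
variable (S : Set (Fin n))

/-- Kill the variables in `S`. -/
noncomputable def killS [DecidablePred (· ∈ S)] :
    MvPolynomial (Fin n) k →ₐ[k] MvPolynomial {i : Fin n // i ∉ S} k :=
  aeval (fun i => if h : i ∈ S then 0 else X ⟨i, h⟩)

/-- Include the polynomial ring on the complement of `S`. -/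
noncomputable def inclS : MvPolynomial {i : Fin n // i ∉ S} k →ₐ[k] MvPolynomial (Fin n) k :=
  rename Subtype.val

variable [DecidablePred (· ∈ S)]

theorem killS_X_mem {i : Fin n} (hi : i ∈ S) : killS (k := k) S (X i) = 0 := by
  simp [killS, hi]

theorem killS_X_not_mem {i : Fin n} (hi : i ∉ S) : killS (k := k) S (X i) = X ⟨i, hi⟩ := by
  simp [killS, hi]

theorem inclS_X (j : {i : Fin n // i ∉ S}) : inclS (k := k) S (X j) = X j.1 := by
  simp [inclS]

theorem killS_inclS (P : MvPolynomial {i : Fin n // i ∉ S} k) : killS S (inclS S P) = P := by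
  have h : (killS (k := k) S).comp (inclS S) = AlgHom.id k _ := by
    apply MvPolynomial.algHom_ext
    intro j
    rw [AlgHom.comp_apply, inclS_X, killS_X_not_mem S j.2]
    rfl
  exact DFunLike.congr_fun h P

theorem killS_eq_zero_of_mem (g : MvPolynomial (Fin n) k) (hg : g ∈ varIdeal (k := k) S) :
    killS S g = 0 := by
  have h : varIdeal (k := k) S ≤ RingHom.ker (killS (k := k) S) := by
    refine Ideal.span_le.mpr ?_
    rintro _ ⟨i, hi, rfl⟩
    rw [SetLike.mem_coe, RingHom.mem_ker]
    exact killS_X_mem S hi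
  exact RingHom.mem_ker.mp (h hg)

theorem sub_inclS_killS_mem (g : MvPolynomial (Fin n) k) :
    g - inclS S (killS S g) ∈ varIdeal (k := k) S := by
  have h : (Ideal.Quotient.mkₐ k (varIdeal (k := k) S)).comp ((inclS S).comp (killS S)) =
      Ideal.Quotient.mkₐ k _ := by
    apply MvPolynomial.algHom_ext
    intro i
    by_cases hi : i ∈ S
    · simp only [AlgHom.comp_apply, killS_X_mem S hi, map_zero]
      rw [eq_comm, Ideal.Quotient.mkₐ_eq_mk, Ideal.Quotient.eq_zero_iff_mem]
      exact X_mem_varIdeal hi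
    · simp only [AlgHom.comp_apply, killS_X_not_mem S hi, inclS_X]
  have h1 := DFunLike.congr_fun h g
  simp only [AlgHom.comp_apply, Ideal.Quotient.mkₐ_eq_mk] at h1
  rw [eq_comm, Ideal.Quotient.eq] at h1
  exact h1

end Compl

theorem trdeg_residueField_eq (q : Ideal (MvPolynomial (Fin n) k)) [q.IsPrime]
    (S : Set (Fin n)) [DecidablePred (· ∈ S)]
    (φ : MvPolynomial (Fin n) k →ₐ[k] MvPolynomial (Fin n) k)
    (hfin : φ.toRingHom.Finite) (hφ : ∀ g, φ g ∈ q ↔ g ∈ varIdeal S) :
    Algebra.trdeg k q.ResidueField = (Fintype.card {i : Fin n // i ∉ S} : Cardinal.{u}) := by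
  let π : MvPolynomial (Fin n) k →ₐ[k] q.ResidueField := IsScalarTower.toAlgHom k _ _
  let θ : MvPolynomial {i : Fin n // i ∉ S} k →ₐ[k] q.ResidueField := π.comp (φ.comp (inclS S))
  have hker := Ideal.ker_algebraMap_residueField q
  have hπ : ∀ x, π x = 0 ↔ x ∈ q := by
    intro x
    constructor
    · intro hx
      exact hker.le (RingHom.mem_ker.mpr hx)
    · intro hx
      exact RingHom.mem_ker.mp (hker.ge hx)
  have hθinj : Function.Injective θ := by
    rw [injective_iff_map_eq_zero]
    intro P hP
    have h1 : φ (inclS S P) ∈ q := (hπ _).mp hP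
    have h2 : inclS S P ∈ varIdeal S := (hφ _).mp h1
    have h3 := killS_eq_zero_of_mem S _ h2
    rwa [killS_inclS] at h3
  have hπφ : ∀ h, π (φ h) = θ (killS S h) := by
    intro h
    have h1 := sub_inclS_killS_mem (k := k) S h
    have h2 : φ (h - inclS S (killS S h)) ∈ q := (hφ _).mpr h1
    have h3 := (hπ _).mpr h2
    rw [map_sub, map_sub, sub_eq_zero] at h3
    exact h3
  let _ : Algebra (MvPolynomial {i : Fin n // i ∉ S} k) q.ResidueField := θ.toRingHom.toAlgebra
  have : IsScalarTower k (MvPolynomial {i : Fin n // i ∉ S} k) q.ResidueField :=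
    IsScalarTower.of_algebraMap_eq (fun x => (θ.commutes x).symm)
  have : FaithfulSMul (MvPolynomial {i : Fin n // i ∉ S} k) q.ResidueField :=
    (faithfulSMul_iff_algebraMap_injective _ _).mpr hθinj
  have hint : ∀ a : MvPolynomial (Fin n) k,
      IsIntegral (MvPolynomial {i : Fin n // i ∉ S} k) (π a) := by
    intro a
    obtain ⟨p, hp, hpa⟩ := hfin.to_isIntegral a
    refine ⟨p.map (killS (k := k) S).toRingHom, hp.map _, ?_⟩
    rw [Polynomial.eval₂_map]
    have hcomp : (algebraMap (MvPolynomial {i : Fin n // i ∉ S} k) q.ResidueField).comp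
        (killS (k := k) S).toRingHom = π.toRingHom.comp φ.toRingHom :=
      RingHom.ext fun h => (hπφ h).symm
    rw [hcomp]
    have h5 := Polynomial.hom_eval₂ p φ.toRingHom π.toRingHom a
    rw [hpa, map_zero] at h5
    exact h5.symm
  have : Algebra.IsAlgebraic (MvPolynomial {i : Fin n // i ∉ S} k) q.ResidueField := by
    constructor
    intro z
    obtain ⟨a', b', _, rfl⟩ :=
      IsFractionRing.div_surjective (A := MvPolynomial (Fin n) k ⧸ q) z
    obtain ⟨a, rfl⟩ := Ideal.Quotient.mk_surjective a'
    obtain ⟨b, rfl⟩ := Ideal.Quotient.mk_surjective b'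
    have ea : algebraMap (MvPolynomial (Fin n) k ⧸ q) q.ResidueField (Ideal.Quotient.mk q a) =
        π a := rfl
    have eb : algebraMap (MvPolynomial (Fin n) k ⧸ q) q.ResidueField (Ideal.Quotient.mk q b) =
        π b := rfl
    rw [ea, eb, div_eq_mul_inv]
    exact (hint a).isAlgebraic.mul (hint b).isAlgebraic.inv
  have h1 := trdeg_add_eq k (MvPolynomial {i : Fin n // i ∉ S} k) (A := q.ResidueField)
  have h0 : Algebra.trdeg (MvPolynomial {i : Fin n // i ∉ S} k) q.ResidueField = 0 :=
    trdeg_eq_zero
  rw [h0, add_zero, MvPolynomial.trdeg_of_isDomain] at h1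
  rw [← h1]
  simp

/-- **Refined Noether normalization.** -/
theorem refined_noether (n r : ℕ) (q : Ideal (MvPolynomial (Fin n) k)) [q.IsPrime]
    (hr : Algebra.trdeg k q.ResidueField = r) :
    ∃ φ : MvPolynomial (Fin n) k →ₐ[k] MvPolynomial (Fin n) k, φ.toRingHom.Finite ∧
      q.comap φ = Ideal.span (Set.range fun i : {i : Fin n // r ≤ (i : ℕ)} =>
        (X (i : Fin n) : MvPolynomial (Fin n) k)) := by
  classical
  obtain ⟨S, φ0, hfin, hφ0⟩ := exists_finite_comap_eq_varIdeal n q
  have hcard := trdeg_residueField_eq q S φ0 hfin hφ0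
  rw [hr] at hcard
  have hcard' : Fintype.card {i : Fin n // i ∉ S} = r := by
    exact_mod_cast hcard.symm
  have hrn : r ≤ n := by
    rw [← hcard']
    exact (Fintype.card_subtype_le _).trans (by simp)
  have hc2 : Fintype.card {i : Fin n // ¬ (r ≤ (i : ℕ))} = r := by
    calc Fintype.card {i : Fin n // ¬ (r ≤ (i : ℕ))}
        = Fintype.card {i : Fin n // (i : ℕ) < r} :=
          Fintype.card_congr (Equiv.subtypeEquivRight (fun i => not_le))
      _ = r := Fintype.card_fin_lt_of_le hrn
  let e0 : {i : Fin n // ¬ (r ≤ (i : ℕ))} ≃ {i : Fin n // i ∉ S} :=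
    Fintype.equivOfCardEq (hc2.trans hcard'.symm)
  let e : Equiv.Perm (Fin n) := e0.extendSubtype
  have he_notmem : ∀ i : Fin n, ¬ (r ≤ (i : ℕ)) → e i ∉ S := fun i hi =>
    e0.extendSubtype_mem i hi
  have he_mem : ∀ i : Fin n, r ≤ (i : ℕ) → e i ∈ S := fun i hi => by
    have := e0.extendSubtype_not_mem i (not_not.mpr hi)
    exact not_not.mp this
  refine ⟨φ0.comp (rename e), ?_, ?_⟩
  · have hren : (rename (R := k) (e : Fin n → Fin n)).toRingHom.Finite :=
      RingHom.Finite.of_surjective _ (rename_surjective _ e.surjective)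
    exact hfin.comp hren
  · ext g
    rw [Ideal.mem_comap, AlgHom.comp_apply, hφ0]
    constructor
    · intro hg
      have hle : varIdeal (k := k) S ≤
          (Ideal.span (Set.range fun i : {i : Fin n // r ≤ (i : ℕ)} =>
            (X (i : Fin n) : MvPolynomial (Fin n) k))).comap
              (rename (R := k) (e.symm : Fin n → Fin n)) := by
        refine Ideal.span_le.mpr ?_
        rintro _ ⟨j, hj, rfl⟩
        rw [SetLike.mem_coe, Ideal.mem_comap, rename_X]
        have hrj : r ≤ ((e.symm j : Fin n) : ℕ) := by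
          by_contra hlt
          have := he_notmem (e.symm j) hlt
          rw [Equiv.apply_symm_apply] at this
          exact this hj
        exact Ideal.subset_span ⟨⟨e.symm j, hrj⟩, rfl⟩
      have h1 := Ideal.mem_comap.mp (hle hg)
      have h2 : rename (R := k) (e.symm : Fin n → Fin n) (rename (e : Fin n → Fin n) g) = g := by
        rw [rename_rename]
        have : ((e.symm : Fin n → Fin n) ∘ (e : Fin n → Fin n)) = id := by
          funext x
          simp
        rw [this, rename_id]
        rfl
      rwa [h2] at h1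
    · intro hg
      have hle : Ideal.span (Set.range fun i : {i : Fin n // r ≤ (i : ℕ)} =>
          (X (i : Fin n) : MvPolynomial (Fin n) k)) ≤
          (varIdeal (k := k) S).comap (rename (R := k) (e : Fin n → Fin n)) := by
        refine Ideal.span_le.mpr ?_
        rintro _ ⟨⟨i, hi⟩, rfl⟩
        rw [SetLike.mem_coe, Ideal.mem_comap, rename_X]
        exact X_mem_varIdeal (he_mem i hi)
      exact Ideal.mem_comap.mp (hle hg)

end Groth.Agent.Helper19.RefNN
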