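import Groth.Agent.Lib.Helper19.RefNN.Nagata

set_option autoImplicit false

/-!
# Refined Noether normalization for a prime of a polynomial ring
-/

open MvPolynomial

namespace Groth.Agent.Helper19.RefNN

universe u

section General
variable {k : Type u} [Field k]

/-- Transfer of integrality along a commutative square. -/
theorem isIntegralElem_of_square {A B A' B' : Type*} [CommRing A] [CommRing B] [CommRing A']
    [CommRing B'] (φ : A →+* B) (Φ : A' →+* B') (ι₁ : A →+* A') (ι₂ : B →+* B')
    (h : Φ.comp ι₁ = ι₂.comp φ) {x : B} (hx : φ.IsIntegralElem x) :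
    Φ.IsIntegralElem (ι₂ x) := by
  obtain ⟨p, hp, hpx⟩ := hx
  refine ⟨p.map ι₁, hp.map ι₁, ?_⟩
  rw [Polynomial.eval₂_map, h, ← Polynomial.hom_eval₂, hpx, map_zero]

/-- An algebra hom between polynomial rings is finite as soon as all variables of the target
are integral over it. -/
theorem finite_of_isIntegralElem_X {σ τ : Type*} [Finite τ]
    (ψ : MvPolynomial σ k →ₐ[k] MvPolynomial τ k)
    (h : ∀ j, ψ.toRingHom.IsIntegralElem (X j)) : ψ.toRingHom.Finite := by
  have hint : ψ.toRingHom.IsIntegral := by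
    intro p
    induction p using MvPolynomial.induction_on with
    | C a =>
      have : (C a : MvPolynomial τ k) = ψ.toRingHom (C a) := by simp
      rw [this]
      exact ψ.toRingHom.isIntegralElem_map
    | add p q hp hq => exact RingHom.IsIntegralElem.add _ hp hq
    | mul_X p j hp => exact RingHom.IsIntegralElem.mul _ hp (h j)
  refine hint.to_finite ?_
  have h1 : (ψ.toRingHom.comp (algebraMap k (MvPolynomial σ k))).FiniteType := by
    have : ψ.toRingHom.comp (algebraMap k (MvPolynomial σ k)) =
        algebraMap k (MvPolynomial τ k) := by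
      ext a
      simp
    rw [this]
    exact RingHom.finiteType_algebraMap.mpr inferInstance
  exact h1.of_comp_finiteType

/-- The ideal generated by the variables in `S`. -/
noncomputable def varIdeal {σ : Type*} (S : Set σ) : Ideal (MvPolynomial σ k) :=
  Ideal.span ((X : σ → MvPolynomial σ k) '' S)

theorem X_mem_varIdeal {σ : Type*} {S : Set σ} {i : σ} (hi : i ∈ S) :
    (X i : MvPolynomial σ k) ∈ varIdeal S :=
  Ideal.subset_span ⟨i, hi, rfl⟩

variable {n : ℕ}

/-- The inclusion `k[X_0..X_{n-1}] → k[X_0..X_n]`, `X_i ↦ X_{i+1}`. -/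
noncomputable def incl (n : ℕ) : MvPolynomial (Fin n) k →ₐ[k] MvPolynomial (Fin (n + 1)) k :=
  rename Fin.succ

@[simp] theorem incl_X (i : Fin n) : incl (k := k) n (X i) = X i.succ := by
  simp [incl]

theorem incl_injective : Function.Injective (incl (k := k) n) :=
  rename_injective _ (Fin.succ_injective n)

/-- The substitution `X_0 ↦ f`, `X_{i+1} ↦ X_{i+1}`. -/
noncomputable def subst0 (f : MvPolynomial (Fin (n + 1)) k) :
    MvPolynomial (Fin (n + 1)) k →ₐ[k] MvPolynomial (Fin (n + 1)) k :=
  aeval (Fin.cases f (fun i => X i.succ) : Fin (n + 1) → MvPolynomial (Fin (n + 1)) k)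

@[simp] theorem subst0_X_zero (f : MvPolynomial (Fin (n + 1)) k) : subst0 f (X 0) = f := by
  simp [subst0]

@[simp] theorem subst0_X_succ (f : MvPolynomial (Fin (n + 1)) k) (i : Fin n) :
    subst0 f (X i.succ) = X i.succ := by
  simp [subst0]

theorem subst0_incl (f : MvPolynomial (Fin (n + 1)) k) (g : MvPolynomial (Fin n) k) :
    subst0 f (incl n g) = incl n g := by
  have h : (subst0 f).comp (incl n) = incl n := by
    apply MvPolynomial.algHom_ext
    intro i
    simp
  exact DFunLike.congr_fun h g

theorem eval₂_incl_finSuccEquiv (f : MvPolynomial (Fin (n + 1)) k) :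
    Polynomial.eval₂ (incl (k := k) n).toRingHom (X 0) (finSuccEquiv k n f) = f := by
  have h : (Polynomial.eval₂RingHom (incl (k := k) n).toRingHom (X 0)).comp
      ((finSuccEquiv k n : MvPolynomial (Fin (n + 1)) k ≃ₐ[k] _) :
        MvPolynomial (Fin (n + 1)) k →+* _) = RingHom.id _ := by
    apply MvPolynomial.ringHom_ext
    · intro a
      have h0 : finSuccEquiv k n (C a) = Polynomial.C (C a) := by
        have := (finSuccEquiv k n).commutes a
        rwa [MvPolynomial.algebraMap_eq, Polynomial.algebraMap_apply,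
          MvPolynomial.algebraMap_eq] at this
      show Polynomial.eval₂ (incl (k := k) n).toRingHom (X 0) (finSuccEquiv k n (C a)) = C a
      rw [h0, Polynomial.eval₂_C]
      show incl n (C a) = C a
      simp [incl]
    · intro i
      refine Fin.cases ?_ (fun j => ?_) i
      · simp [finSuccEquiv_X_zero]
      · simp [finSuccEquiv_X_succ]
  exact DFunLike.congr_fun h f

theorem subst0_finite (f : MvPolynomial (Fin (n + 1)) k)
    (hu : IsUnit (finSuccEquiv k n f).leadingCoeff)
    (hd : 0 < (finSuccEquiv k n f).natDegree) : (subst0 f).toRingHom.Finite := by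
  apply finite_of_isIntegralElem_X
  intro j
  refine Fin.cases ?_ (fun i => ?_) j
  · obtain ⟨u, hu'⟩ := hu
    let ι : MvPolynomial (Fin n) k →+* MvPolynomial (Fin (n + 1)) k := (incl (k := k) n).toRingHom
    have hιinj : Function.Injective ι := incl_injective
    set F := finSuccEquiv k n f with hF
    let G : Polynomial (MvPolynomial (Fin (n + 1)) k) := F.map ι
    have hGdeg : G.natDegree = F.natDegree := Polynomial.natDegree_map_eq_of_injective hιinj F
    have hGlc : G.leadingCoeff = ι (u : MvPolynomial (Fin n) k) := by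
      rw [Polynomial.leadingCoeff_map_of_injective hιinj, hu']
    have hlt : (Polynomial.C (X 0 : MvPolynomial (Fin (n + 1)) k)).degree < G.degree := by
      refine lt_of_le_of_lt Polynomial.degree_C_le ?_
      rw [← Polynomial.natDegree_pos_iff_degree_pos, hGdeg]
      exact hd
    let p : Polynomial (MvPolynomial (Fin (n + 1)) k) :=
      Polynomial.C (ι ((u⁻¹ : (MvPolynomial (Fin n) k)ˣ) : MvPolynomial (Fin n) k)) *
        (G - Polynomial.C (X 0))
    refine ⟨p, ?_, ?_⟩
    · apply Polynomial.monic_C_mul_of_mul_leadingCoeff_eq_one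
      rw [Polynomial.leadingCoeff_sub_of_degree_lt hlt, hGlc, ← map_mul, Units.inv_mul, map_one]
    · show Polynomial.eval₂ (subst0 f).toRingHom (X 0) p = 0
      have h1 : (subst0 f).toRingHom.comp ι = ι :=
        RingHom.ext fun g => subst0_incl f g
      have h2 : Polynomial.eval₂ (subst0 f).toRingHom (X 0) G = f := by
        show Polynomial.eval₂ (subst0 f).toRingHom (X 0) (F.map ι) = f
        rw [Polynomial.eval₂_map, h1]
        exact eval₂_incl_finSuccEquiv f
      show Polynomial.eval₂ (subst0 f).toRingHom (X 0)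
        (Polynomial.C _ * (G - Polynomial.C (X 0))) = 0
      have h3 : (subst0 f).toRingHom (X 0) = f := subst0_X_zero f
      rw [Polynomial.eval₂_mul, Polynomial.eval₂_sub, h2]
      have h4 : Polynomial.eval₂ (subst0 f).toRingHom (X 0)
          (Polynomial.C (X 0 : MvPolynomial (Fin (n + 1)) k)) = f := by
        rw [Polynomial.eval₂_C, h3]
      rw [h4, sub_self, mul_zero]
  · have : (X i.succ : MvPolynomial (Fin (n + 1)) k) = (subst0 f).toRingHom (X i.succ) :=
      (subst0_X_succ f i).symm
    rw [this]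
    exact RingHom.isIntegralElem_map _

/-- Set `X_0 := 0`. -/
noncomputable def kill0 (n : ℕ) : MvPolynomial (Fin (n + 1)) k →ₐ[k] MvPolynomial (Fin n) k :=
  aeval (Fin.cases 0 X : Fin (n + 1) → MvPolynomial (Fin n) k)

@[simp] theorem kill0_X_zero : kill0 (k := k) n (X 0) = 0 := by simp [kill0]
@[simp] theorem kill0_X_succ (i : Fin n) : kill0 (k := k) n (X i.succ) = X i := by simp [kill0]

theorem sub_incl_kill0_mem (g : MvPolynomial (Fin (n + 1)) k) :
    g - incl n (kill0 n g) ∈ Ideal.span {(X 0 : MvPolynomial (Fin (n + 1)) k)} := by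
  have h : (Ideal.Quotient.mkₐ k (Ideal.span {(X 0 : MvPolynomial (Fin (n + 1)) k)})).comp
      ((incl n).comp (kill0 n)) = Ideal.Quotient.mkₐ k _ := by
    apply MvPolynomial.algHom_ext
    intro i
    refine Fin.cases ?_ (fun j => ?_) i
    · simp only [AlgHom.comp_apply, kill0_X_zero, map_zero]
      rw [eq_comm, Ideal.Quotient.mkₐ_eq_mk, Ideal.Quotient.eq_zero_iff_mem]
      exact Ideal.subset_span rfl
    · simp only [AlgHom.comp_apply, kill0_X_succ, incl_X]
  have h1 := DFunLike.congr_fun h g
  simp only [AlgHom.comp_apply, Ideal.Quotient.mkₐ_eq_mk] at h1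
  rw [eq_comm, Ideal.Quotient.eq] at h1
  exact h1

/-- Extend an endomorphism of `k[X_0..X_{n-1}]` to `k[X_0..X_n]` by the identity on the new
variable `X_0`. -/
noncomputable def extend0 (φ : MvPolynomial (Fin n) k →ₐ[k] MvPolynomial (Fin n) k) :
    MvPolynomial (Fin (n + 1)) k →ₐ[k] MvPolynomial (Fin (n + 1)) k :=
  aeval (Fin.cases (X 0) (fun i => incl n (φ (X i))) : Fin (n + 1) → MvPolynomial (Fin (n + 1)) k)

@[simp] theorem extend0_X_zero (φ : MvPolynomial (Fin n) k →ₐ[k] MvPolynomial (Fin n) k) :
    extend0 φ (X 0) = X 0 := by simp [extend0]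

@[simp] theorem extend0_X_succ (φ : MvPolynomial (Fin n) k →ₐ[k] MvPolynomial (Fin n) k)
    (i : Fin n) : extend0 φ (X i.succ) = incl n (φ (X i)) := by simp [extend0]

theorem extend0_incl (φ : MvPolynomial (Fin n) k →ₐ[k] MvPolynomial (Fin n) k)
    (g : MvPolynomial (Fin n) k) : extend0 φ (incl n g) = incl n (φ g) := by
  have h : (extend0 φ).comp (incl n) = (incl n).comp φ := by
    apply MvPolynomial.algHom_ext
    intro i
    simp
  exact DFunLike.congr_fun h g

theorem extend0_finite (φ : MvPolynomial (Fin n) k →ₐ[k] MvPolynomial (Fin n) k)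
    (hφ : φ.toRingHom.Finite) : (extend0 φ).toRingHom.Finite := by
  apply finite_of_isIntegralElem_X
  intro j
  refine Fin.cases ?_ (fun i => ?_) j
  · have : (X 0 : MvPolynomial (Fin (n + 1)) k) = (extend0 φ).toRingHom (X 0) :=
      (extend0_X_zero φ).symm
    rw [this]
    exact RingHom.isIntegralElem_map _
  · have hsq : (extend0 φ).toRingHom.comp (incl (k := k) n).toRingHom =
        (incl (k := k) n).toRingHom.comp φ.toRingHom :=
      RingHom.ext fun g => extend0_incl φ g
    have := isIntegralElem_of_square φ.toRingHom (extend0 φ).toRingHom (incl (k := k) n).toRingHom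
      (incl (k := k) n).toRingHom hsq (hφ.to_isIntegral (X i))
    have e : (incl (k := k) n).toRingHom (X i) = X i.succ := incl_X (k := k) i
    rw [e] at this
    exact this

theorem map_incl_varIdeal_le (S : Set (Fin n)) (g : MvPolynomial (Fin n) k)
    (hg : g ∈ varIdeal S) : incl n g ∈ varIdeal (k := k) (Fin.succ '' S) := by
  have h : varIdeal S ≤ (varIdeal (k := k) (Fin.succ '' S)).comap (incl (k := k) n) := by
    refine Ideal.span_le.mpr ?_
    rintro _ ⟨i, hi, rfl⟩
    rw [SetLike.mem_coe, Ideal.mem_comap, incl_X (k := k) i]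
    exact X_mem_varIdeal ⟨i, hi, rfl⟩
  exact h hg

theorem varIdeal_mono {σ : Type*} {S T : Set σ} (h : S ⊆ T) :
    varIdeal (k := k) S ≤ varIdeal T :=
  Ideal.span_mono (Set.image_mono h)

/-- The statement proved by induction. -/
def Good {n : ℕ} (q : Ideal (MvPolynomial (Fin n) k)) : Prop :=
  ∃ (S : Set (Fin n)) (φ : MvPolynomial (Fin n) k →ₐ[k] MvPolynomial (Fin n) k),
    φ.toRingHom.Finite ∧ ∀ g, φ g ∈ q ↔ g ∈ varIdeal S

theorem good_bot {n : ℕ} : Good (⊥ : Ideal (MvPolynomial (Fin n) k)) := by
  refine ⟨∅, AlgHom.id k _, RingHom.Finite.id _, fun g => ?_⟩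
  simp [varIdeal]

theorem eq_bot_of_isPrime_zero (q : Ideal (MvPolynomial (Fin 0) k)) [hq : q.IsPrime] : q = ⊥ := by
  rw [eq_bot_iff]
  intro f hf
  rw [Ideal.mem_bot]
  by_contra hf0
  obtain ⟨c, hc'⟩ : ∃ c : k, f = C c := ⟨_, eq_C_of_isEmpty f⟩
  subst hc'
  have hc : c ≠ 0 := fun h => hf0 (by rw [h, map_zero])
  apply hq.ne_top
  rw [Ideal.eq_top_iff_one]
  have : (1 : MvPolynomial (Fin 0) k) = C c⁻¹ * C c := by
    rw [← C_mul, inv_mul_cancel₀ hc, C_1]
  rw [this]
  exact q.mul_mem_left _ hf

/-- Transport along an automorphism. -/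
theorem good_of_comap_symm {n : ℕ} (q : Ideal (MvPolynomial (Fin n) k))
    (T : MvPolynomial (Fin n) k ≃ₐ[k] MvPolynomial (Fin n) k)
    (h : Good (q.comap (T.symm : MvPolynomial (Fin n) k →ₐ[k] MvPolynomial (Fin n) k))) :
    Good q := by
  obtain ⟨S, φ, hfin, hφ⟩ := h
  refine ⟨S, (T.symm : MvPolynomial (Fin n) k →ₐ[k] MvPolynomial (Fin n) k).comp φ, ?_, ?_⟩
  · have h1 : ((T.symm : MvPolynomial (Fin n) k →ₐ[k] MvPolynomial (Fin n) k)).toRingHom.Finite :=
      RingHom.Finite.of_surjective _
        (show Function.Surjective ((T.symm : MvPolynomial (Fin n) k →ₐ[k]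
          MvPolynomial (Fin n) k)).toRingHom from T.symm.surjective)
    exact h1.comp hfin
  · intro g
    rw [← hφ g, Ideal.mem_comap, AlgHom.comp_apply]

/-- The inductive step for a prime containing a polynomial with invertible leading coefficient
in `X_0`. -/
theorem good_step {n : ℕ} (ih : ∀ (q2 : Ideal (MvPolynomial (Fin n) k)) [q2.IsPrime], Good q2)
    (q' : Ideal (MvPolynomial (Fin (n + 1)) k)) [hq' : q'.IsPrime]
    (f' : MvPolynomial (Fin (n + 1)) k) (hf'q' : f' ∈ q')
    (hT : IsUnit (finSuccEquiv k n f').leadingCoeff) : Good q' := by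
  have hd : 0 < (finSuccEquiv k n f').natDegree := by
    by_contra hd0
    have hd0' : (finSuccEquiv k n f').natDegree = 0 := by omega
    have h1 : finSuccEquiv k n f' = Polynomial.C ((finSuccEquiv k n f').leadingCoeff) := by
      conv_lhs => rw [Polynomial.eq_C_of_natDegree_eq_zero hd0']
      rw [Polynomial.leadingCoeff, hd0']
    have h2 : IsUnit (finSuccEquiv k n f') := by
      rw [h1]
      exact Polynomial.isUnit_C.mpr hT
    have h3 : IsUnit f' := by
      have := h2.map (finSuccEquiv k n).symm
      rwa [AlgEquiv.symm_apply_apply] at this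
    exact hq'.ne_top (Ideal.eq_top_of_isUnit_mem _ hf'q' h3)
  have hψfin := subst0_finite f' hT hd
  have hq1 : (q'.comap (subst0 f')).IsPrime := Ideal.comap_isPrime _ _
  have hX0 : (X 0 : MvPolynomial (Fin (n + 1)) k) ∈ q'.comap (subst0 f') := by
    rw [Ideal.mem_comap, subst0_X_zero]
    exact hf'q'
  have hq2 : ((q'.comap (subst0 f')).comap (incl (k := k) n)).IsPrime := Ideal.comap_isPrime _ _
  obtain ⟨S2, φ2, hφ2fin, hφ2⟩ := ih ((q'.comap (subst0 f')).comap (incl (k := k) n))
  refine ⟨insert 0 (Fin.succ '' S2), (subst0 f').comp (extend0 φ2), ?_, fun g => ?_⟩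
  · exact hψfin.comp (extend0_finite φ2 hφ2fin)
  · have hφq : (subst0 f').comp (extend0 φ2) g ∈ q' ↔ extend0 φ2 g ∈ q'.comap (subst0 f') := by
      rw [Ideal.mem_comap, AlgHom.comp_apply]
    rw [hφq]
    constructor
    · intro hg
      have hdec := sub_incl_kill0_mem g
      rw [Ideal.mem_span_singleton] at hdec
      obtain ⟨g', hg'⟩ := hdec
      have hgeq : g = X 0 * g' + incl n (kill0 n g) := by rw [← hg']; ring
      have h1 : incl n (φ2 (kill0 n g)) ∈ q'.comap (subst0 f') := by
        have : incl n (φ2 (kill0 n g)) = extend0 φ2 g - X 0 * extend0 φ2 g' := by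
          conv_rhs => rw [hgeq]
          rw [map_add, map_mul, extend0_X_zero, extend0_incl]
          ring
        rw [this]
        exact Ideal.sub_mem _ hg (Ideal.mul_mem_right _ _ hX0)
      have h2 : kill0 n g ∈ varIdeal S2 := (hφ2 _).mp (Ideal.mem_comap.mpr h1)
      rw [hgeq]
      refine Ideal.add_mem _ (Ideal.mul_mem_right _ _ (X_mem_varIdeal (Set.mem_insert _ _))) ?_
      exact varIdeal_mono (Set.subset_insert _ _) (map_incl_varIdeal_le S2 _ h2)
    · intro hg
      have hle : varIdeal (k := k) (insert 0 (Fin.succ '' S2)) ≤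
          (q'.comap (subst0 f')).comap (extend0 φ2) := by
        refine Ideal.span_le.mpr ?_
        rintro _ ⟨i, hi, rfl⟩
        rw [SetLike.mem_coe, Ideal.mem_comap]
        rcases hi with rfl | ⟨j, hj, rfl⟩
        · rw [extend0_X_zero]
          exact hX0
        · rw [extend0_X_succ]
          exact Ideal.mem_comap.mp ((hφ2 (X j)).mpr (X_mem_varIdeal hj))
      exact Ideal.mem_comap.mp (hle hg)

/-- The inductive statement. -/
theorem exists_finite_comap_eq_varIdeal : ∀ (n : ℕ) (q : Ideal (MvPolynomial (Fin n) k))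
    [q.IsPrime], Good q := by
  intro n
  induction n with
  | zero =>
    intro q hq
    rw [eq_bot_of_isPrime_zero q]
    exact good_bot
  | succ n ih =>
    intro q hq
    by_cases hqbot : q = ⊥
    · rw [hqbot]
      exact good_bot
    · obtain ⟨f, hfq, hf0⟩ := Submodule.exists_mem_ne_zero_of_ne_bot hqbot
      obtain ⟨T, hT⟩ := exists_algEquiv_isUnit_leadingCoeff f hf0
      apply good_of_comap_symm q T
      have hq' : (q.comap (T.symm : MvPolynomial (Fin (n + 1)) k →ₐ[k]
          MvPolynomial (Fin (n + 1)) k)).IsPrime := Ideal.comap_isPrime _ _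
      refine good_step (fun q2 _ => ih q2) _ (T f) ?_ hT
      rw [Ideal.mem_comap]
      show T.symm (T f) ∈ q
      rw [AlgEquiv.symm_apply_apply]
      exact hfq

end General

end Groth.Agent.Helper19.RefNN
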